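import Mathlib
import Cfsg.Agent.H617.Two.Defs
import Cfsg.Agent.SmallSimple.KleinFourAut
import Cfsg.Agent.SmallSimple.S1000.FrameAut

/-!
# S4543, T1: subgroups of `GL(3,2)` (helper809)
-/

set_option autoImplicit false

namespace Cfsg.Agent.H809.Two

open Subgroup Cfsg.Agent.H617.Two Cfsg.Agent.SmallSimple.KleinFourAut Cfsg.Agent.SmallSimple.S1000.FrameAut

section

variable {V : Type*} [Group V]

theorem card_ne_one (h8 : Nat.card V = 8) : Nat.card {x : V // x ≠ 1} = 7 := by
  classical
  have : Finite V := Nat.finite_of_card_ne_zero (by omega)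
  have := Fintype.ofFinite V
  have h1 : Nat.card {x : V // x ≠ 1} = Fintype.card V - 1 := by
    rw [Nat.card_eq_fintype_card, Fintype.card_subtype_compl, Fintype.card_subtype_eq]
  rw [h1, ← Nat.card_eq_fintype_card, h8]

theorem autPerm_coe (σ : MulAut V) (x : {x : V // x ≠ 1}) : ((autPerm V σ x : {x : V // x ≠ 1}) : V) = σ x := rfl

/-- an automorphism of order seven is transitive -/
theorem seven_trans (h8 : Nat.card V = 8) {σ : MulAut V} (hσ : orderOf σ = 7) {a b : V} (ha : a ≠ 1) (hb : b ≠ 1) :
    ∃ i : ℕ, (σ ^ i) a = b := by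
  classical
  have : Finite V := Nat.finite_of_card_ne_zero (by omega)
  have := Fintype.ofFinite V
  have hc : Fintype.card {x : V // x ≠ 1} = 7 := by rw [← Nat.card_eq_fintype_card, card_ne_one h8]
  have ho : orderOf (autPerm V σ) = 7 := by rw [orderOf_injective _ (autPerm_injective V), hσ]
  have hcyc : (autPerm V σ).IsCycle := by
    refine Equiv.Perm.isCycle_of_prime_order'' (by rw [hc]; norm_num) ?_
    rw [ho, hc]
  have hsup : (autPerm V σ).support = Finset.univ := by
    rw [← Finset.card_eq_iff_eq_univ, hc, ← hcyc.orderOf, ho]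
  have hne : ∀ x, autPerm V σ x ≠ x := fun x => Equiv.Perm.mem_support.1 (by rw [hsup]; exact Finset.mem_univ _)
  obtain ⟨i, hi⟩ := hcyc.exists_pow_eq (hne ⟨a, ha⟩) (hne ⟨b, hb⟩)
  refine ⟨i, ?_⟩
  rw [← map_pow] at hi
  exact congrArg Subtype.val hi

/-- an automorphism of order seven has no fixed point -/
theorem seven_free (h8 : Nat.card V = 8) {σ : MulAut V} (hσ : orderOf σ = 7) {a : V} (ha : a ≠ 1) {i : ℕ}
    (hi : (σ ^ i) a = a) : σ ^ i = 1 := by
  refine MulEquiv.ext fun b => ?_
  rw [MulAut.one_apply]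
  by_cases hb : b = 1
  · rw [hb, map_one]
  · obtain ⟨j, rfl⟩ := seven_trans h8 hσ ha hb
    rw [← MulAut.mul_apply, ← pow_add, add_comm, pow_add, MulAut.mul_apply, hi]

/-- a 2-element has a fixed point -/
theorem exists_fixed (h8 : Nat.card V = 8) {t : MulAut V} {k : ℕ} (ht : t ^ 2 ^ k = 1) :
    ∃ a : V, a ≠ 1 ∧ t a = a := by
  classical
  have : Finite V := Nat.finite_of_card_ne_zero (by omega)
  have : Fact (Nat.Prime 2) := ⟨Nat.prime_two⟩
  have hp : IsPGroup 2 (zpowers (autPerm V t)) := by
    apply isPGroup_zpowers_of_pow (k := k)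
    rw [← map_pow, ht, map_one]
  obtain ⟨x, hx⟩ := hp.nonempty_fixed_point_of_prime_not_dvd_card {x : V // x ≠ 1} (by
    rw [card_ne_one h8]; norm_num)
  refine ⟨x, x.2, ?_⟩
  have h1 := hx ⟨autPerm V t, mem_zpowers _⟩
  exact congrArg Subtype.val h1

end

theorem T1b {V : Type*} [Group V] [Finite V] (h8 : Nat.card V ∣ 8) (hel : ∀ v : V, v * v = 1)
    (t h : MulAut V) (ht : t * t = 1) (hinv : t * h * t⁻¹ = h⁻¹) (hodd : Odd (orderOf h)) :
    h ^ 3 = 1 := by
  have hpos : 0 < Nat.card V := Nat.card_pos
  have hdiv : Nat.card V = 1 ∨ Nat.card V = 2 ∨ Nat.card V = 4 ∨ Nat.card V = 8 := by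
    have : Nat.card V ≤ 8 := Nat.le_of_dvd (by norm_num) h8
    interval_cases hc : Nat.card V <;> revert h8 <;> decide
  have hsmall : ∀ m, Nat.card (MulAut V) ∣ m → m ∣ 6 → h ^ 3 = 1 := by
    intro m hm h6
    have h1 : orderOf h ∣ 3 * 2 := (orderOf_dvd_natCard h).trans (hm.trans h6)
    have h2 : Nat.Coprime (orderOf h) 2 := Nat.coprime_two_right.2 hodd
    exact orderOf_dvd_iff_pow_eq_one.1 (h2.dvd_of_dvd_mul_right h1)
  rcases hdiv with hc | hc | hc | hc
  · exact hsmall _ (card_mulAut_dvd V) (by rw [hc]; decide)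
  · exact hsmall _ (card_mulAut_dvd V) (by rw [hc]; decide)
  · exact hsmall _ (card_mulAut_dvd V) (by rw [hc]; decide)
  -- order 8
  have h168 : orderOf h ∣ 168 := by
    rw [← card_mulAut hel hc]
    exact orderOf_dvd_natCard h
  have h21 : orderOf h ∣ 3 * 7 := by
    have h2 : Nat.Coprime (orderOf h) 8 := Nat.Coprime.pow_right 3 (Nat.coprime_two_right.2 hodd)
    exact h2.dvd_of_dvd_mul_right (show orderOf h ∣ 3 * 7 * 8 from h168)
  by_cases h7 : 7 ∣ orderOf h
  · exfalso
    obtain ⟨k, hk⟩ := h7
    have hfin : Finite (MulAut V) := Nat.finite_of_card_ne_zero (by rw [card_mulAut hel hc]; norm_num)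
    have hk0 : k ≠ 0 := by
      rintro rfl
      rw [mul_zero] at hk
      exact (orderOf_pos h).ne' hk
    have hg : orderOf (h ^ k) = 7 := by
      rw [orderOf_pow_of_dvd hk0 (by rw [hk]; exact Dvd.intro_left _ rfl), hk]
      exact Nat.mul_div_cancel _ (Nat.pos_of_ne_zero hk0)
    have hti : ∀ i : ℕ, ∀ v : V, t (((h ^ k) ^ i) v) = (((h ^ k) ^ i)⁻¹) (t v) := by
      intro i v
      have h1 : t * (h ^ k) ^ i = ((h ^ k) ^ i)⁻¹ * t := by
        have h2 : t * (h ^ k) ^ i * t⁻¹ = ((h ^ k) ^ i)⁻¹ := by
          rw [← conj_pow, ← conj_pow, hinv, inv_pow, inv_pow]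
        rw [← h2]
        group
      exact DFunLike.congr_fun h1 v
    obtain ⟨a, ha, hta⟩ := exists_fixed hc (t := t) (k := 1) (by rw [pow_one, pow_two, ht])
    -- a second fixed point
    obtain ⟨b, hb, hba, htb⟩ : ∃ b : V, b ≠ 1 ∧ b ≠ a ∧ t b = b := by
      by_contra hno
      push Not at hno
      let _ : CommGroup V := cg hel
      let φ : V →* V :=
        { toFun := fun v => v * t v
          map_one' := by rw [map_one, mul_one]
          map_mul' := fun v w => by
            rw [map_mul]
            exact mul_mul_mul_comm _ _ _ _ }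
      have htt : ∀ v, t (t v) = v := fun v => DFunLike.congr_fun ht v
      have hfix : ∀ v, t v = v → v = 1 ∨ v = a := by
        intro v hv
        by_cases h1 : v = 1
        · exact Or.inl h1
        · right
          by_contra h2
          exact hno v h1 h2 hv
      have hker : ∀ v ∈ φ.ker, v = 1 ∨ v = a := by
        intro v hv
        apply hfix
        have h1 : v * t v = 1 := hv
        have h2 : v * t v = v * v := by rw [h1, hel]
        exact mul_left_cancel h2
      have hran : ∀ v ∈ φ.range, v = 1 ∨ v = a := by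
        rintro _ ⟨v, rfl⟩
        apply hfix
        show t (v * t v) = v * t v
        rw [map_mul, htt]
        exact comm_of_sq hel _ _
      have hle : ∀ K : Subgroup V, (∀ v ∈ K, v = 1 ∨ v = a) → Nat.card K ≤ 2 := by
        intro K hK
        have h1 : (K : Set V) ⊆ {1, a} := fun v hv => hK v hv
        calc Nat.card K = (K : Set V).ncard := Nat.card_coe_set_eq _
          _ ≤ ({1, a} : Set V).ncard := Set.ncard_le_ncard h1
          _ ≤ 2 := Set.ncard_insert_le _ _ |>.trans (by rw [Set.ncard_singleton])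
      have h1 : Nat.card φ.ker * Nat.card φ.range = 8 := by
        rw [← hc, ← φ.ker.card_mul_index, Subgroup.index_ker]
      have h2 := hle _ hker
      have h3 := hle _ hran
      have : Nat.card φ.ker * Nat.card φ.range ≤ 2 * 2 := Nat.mul_le_mul h2 h3
      omega
    obtain ⟨i, hi⟩ := seven_trans hc hg ha hb
    have h1 := hti i a
    rw [hi, htb, hta, ← hi] at h1
    have h2 : (((h ^ k) ^ i) * ((h ^ k) ^ i)) a = a := by
      rw [MulAut.mul_apply, h1, MulAut.apply_inv_self]
    rw [← pow_add] at h2
    have h3 := seven_free hc hg ha h2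
    have h4 : 7 ∣ i + i := by rw [← hg]; exact orderOf_dvd_of_pow_eq_one h3
    have h5 : 7 ∣ i := by omega
    have h6 : (h ^ k) ^ i = 1 := orderOf_dvd_iff_pow_eq_one.1 (by rw [hg]; exact h5)
    rw [h6, MulAut.one_apply] at hi
    exact hba hi.symm
  · have h7' : Nat.Coprime (orderOf h) 7 := ((Nat.Prime.coprime_iff_not_dvd (by norm_num)).2 h7).symm
    exact orderOf_dvd_iff_pow_eq_one.1 (h7'.dvd_of_dvd_mul_right h21)

theorem T1a {V : Type*} [Group V] [Finite V] (h8 : Nat.card V ∣ 8) (hel : ∀ v : V, v * v = 1)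
    (O : Subgroup (MulAut V)) (h4 : 4 ∣ Nat.card O) (h8' : ¬ 8 ∣ Nat.card O) :
    ∃ N : Subgroup O, N.Normal ∧ IsPGroup 2 N ∧ N ≠ ⊥ := by
  classical
  have hf2 : Fact (Nat.Prime 2) := ⟨Nat.prime_two⟩
  have hf7 : Fact (Nat.Prime 7) := ⟨by norm_num⟩
  have hpos : 0 < Nat.card V := Nat.card_pos
  have hdiv : Nat.card V = 1 ∨ Nat.card V = 2 ∨ Nat.card V = 4 ∨ Nat.card V = 8 := by
    have : Nat.card V ≤ 8 := Nat.le_of_dvd (by norm_num) h8
    interval_cases hc : Nat.card V <;> revert h8 <;> decide
  have hO : Nat.card O ∣ Nat.card (MulAut V) := card_subgroup_dvd_card O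
  have hsmall : ∀ m, Nat.card (MulAut V) ∣ m → m ∣ 6 → False := by
    intro m hm h6
    have : 4 ∣ 6 := h4.trans (hO.trans (hm.trans h6))
    revert this
    decide
  rcases hdiv with hc | hc | hc | hc
  · exact (hsmall _ (card_mulAut_dvd V) (by rw [hc]; decide)).elim
  · exact (hsmall _ (card_mulAut_dvd V) (by rw [hc]; decide)).elim
  · exact (hsmall _ (card_mulAut_dvd V) (by rw [hc]; decide)).elim
  rw [card_mulAut hel hc] at hO
  have hfin : Finite (MulAut V) := Nat.finite_of_card_ne_zero (by rw [card_mulAut hel hc]; norm_num)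
  obtain ⟨T⟩ : Nonempty (Sylow 2 O) := inferInstance
  have hfac : (Nat.card O).factorization 2 = 2 := by
    have h0 : Nat.card O ≠ 0 := Nat.card_pos.ne'
    have ha : 2 ≤ (Nat.card O).factorization 2 := (Nat.prime_two.pow_dvd_iff_le_factorization h0).1 h4
    have hb : ¬ 3 ≤ (Nat.card O).factorization 2 := fun h => h8' ((Nat.prime_two.pow_dvd_iff_le_factorization h0).2 h)
    omega
  have hT : Nat.card T = 4 := by rw [T.card_eq_multiplicity, hfac]; norm_num
  -- no element of order 7
  by_cases h7 : 7 ∣ Nat.card O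
  · exfalso
    obtain ⟨P⟩ : Nonempty (Sylow 7 O) := inferInstance
    have hfac7 : (Nat.card O).factorization 7 = 1 := by
      have h0 : Nat.card O ≠ 0 := Nat.card_pos.ne'
      have ha : 1 ≤ (Nat.card O).factorization 7 := (hf7.out.dvd_iff_one_le_factorization h0).1 h7
      have hb : ¬ 2 ≤ (Nat.card O).factorization 7 := fun h => by
        have := ((hf7.out.pow_dvd_iff_le_factorization h0).2 h).trans hO
        revert this
        decide
      omega
    have hP : Nat.card P = 7 := by rw [P.card_eq_multiplicity, hfac7, pow_one]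
    have hidx : (P : Subgroup O).index * 7 = Nat.card O := by
      have h1 := (P : Subgroup O).card_mul_index
      have h2 : Nat.card (P : Subgroup O) = 7 := hP
      rw [h2] at h1
      rw [mul_comm]
      exact h1
    have h12 : (P : Subgroup O).index ∣ 12 := by
      have h24 : (P : Subgroup O).index ∣ 24 := by
        have : (P : Subgroup O).index * 7 ∣ 24 * 7 := by rw [hidx]; exact hO
        exact Nat.dvd_of_mul_dvd_mul_right (by norm_num) this
      have hn8 : ¬ 8 ∣ (P : Subgroup O).index := fun h => h8' (h.trans (Dvd.intro _ hidx))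
      have hle : (P : Subgroup O).index ≤ 24 := Nat.le_of_dvd (by norm_num) h24
      interval_cases hi : (P : Subgroup O).index <;> revert h24 hn8 <;> decide
    have hn7 : Nat.card (Sylow 7 O) = 1 := by
      have h1 := (P.card_dvd_index).trans h12
      have h2 := card_sylow_modEq_one 7 O
      have hle : Nat.card (Sylow 7 O) ≤ 12 := Nat.le_of_dvd (by norm_num) h1
      unfold Nat.ModEq at h2
      interval_cases hi : Nat.card (Sylow 7 O) <;> revert h1 h2 <;> decide
    have hsub : Subsingleton (Sylow 7 O) := (Nat.card_eq_one_iff_unique.1 hn7).1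
    have hPn : (P : Subgroup O).Normal := Sylow.normal_of_subsingleton P
    obtain ⟨h, hh⟩ := exists_prime_orderOf_dvd_card' (G := (P : Subgroup O)) 7 (by
      show 7 ∣ Nat.card P
      rw [hP])
    -- an involution centralizing `h`
    let φ : (T : Subgroup O) →* MulAut (P : Subgroup O) := (MulAut.conjNormal (H := (P : Subgroup O))).comp
      (T : Subgroup O).subtype
    have hcyc : IsCyclic (P : Subgroup O) := isCyclic_of_prime_card (p := 7) hP
    have hAut : Nat.card (MulAut (P : Subgroup O)) = 6 := by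
      rw [IsCyclic.card_mulAut, show Nat.card (P : Subgroup O) = 7 from hP]
      decide
    have hran : Nat.card φ.range ∣ 2 := by
      have h1 : Nat.card φ.range ∣ 6 := hAut ▸ card_subgroup_dvd_card φ.range
      have h2 : Nat.card φ.range ∣ 4 := by
        rw [← Subgroup.index_ker, ← hT]
        exact Subgroup.index_dvd_card _
      exact (Nat.dvd_gcd h1 h2).trans (by decide)
    have hker : φ.ker ≠ ⊥ := by
      intro hb
      have h1 := φ.ker.card_mul_index
      rw [Subgroup.index_ker, hb, card_bot, one_mul] at h1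
      have h2 : Nat.card (T : Subgroup O) = 4 := hT
      rw [h2] at h1
      rw [h1] at hran
      revert hran
      decide
    obtain ⟨t, ht⟩ := ne_bot_iff_exists_ne_one.1 hker
    have htc : ∀ x : (P : Subgroup O), ((t : (T : Subgroup O)) : O) * (x : O) = x * ((t : (T : Subgroup O)) : O) := by
      intro x
      have h1 : φ (t : (T : Subgroup O)) = 1 := t.2
      have h2 := congrArg (fun f : MulAut (P : Subgroup O) => ((f x : (P : Subgroup O)) : O)) h1
      have h3 : ((t : (T : Subgroup O)) : O) * (x : O) * ((t : (T : Subgroup O)) : O)⁻¹ = x := h2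
      exact mul_inv_eq_iff_eq_mul.1 h3
    set τ : MulAut V := (((t : (T : Subgroup O)) : O) : MulAut V) with hτ
    have hτ1 : τ ≠ 1 := by
      intro h1
      exact ht (Subtype.ext (Subtype.ext (Subtype.ext h1)))
    obtain ⟨k, hk⟩ := T.isPGroup' (t : (T : Subgroup O))
    have hτk : τ ^ 2 ^ k = 1 := by
      have := congrArg (fun x : (T : Subgroup O) => ((x : O) : MulAut V)) hk
      exact this
    obtain ⟨a, ha, hta⟩ := exists_fixed hc hτk
    set η : MulAut V := ((h : O) : MulAut V) with hη
    have hη7 : orderOf η = 7 := by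
      rw [hη, Subgroup.orderOf_coe, Subgroup.orderOf_coe, hh]
    apply hτ1
    refine MulEquiv.ext fun b => ?_
    rw [MulAut.one_apply]
    by_cases hb : b = 1
    · rw [hb, map_one]
    · obtain ⟨i, rfl⟩ := seven_trans hc hη7 ha hb
      have h1 : τ * η ^ i = η ^ i * τ := by
        have h2 := htc (h ^ i)
        exact congrArg (fun x : O => (x : MulAut V)) h2
      rw [← MulAut.mul_apply, h1, MulAut.mul_apply, hta]
  · -- order 4 or 12
    by_cases hN : (T : Subgroup O).Normal
    · refine ⟨T, hN, T.isPGroup', fun hb => ?_⟩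
      have h1 : Nat.card (T : Subgroup O) = 4 := hT
      rw [hb, card_bot] at h1
      exact absurd h1 (by norm_num)
    have hidx : 4 * (T : Subgroup O).index = Nat.card O := by
      have h1 := (T : Subgroup O).card_mul_index
      have h2 : Nat.card (T : Subgroup O) = 4 := hT
      rwa [h2] at h1
    have h3 : (T : Subgroup O).index ∣ 3 := by
      have h42 : (T : Subgroup O).index ∣ 42 := by
        have : 4 * (T : Subgroup O).index ∣ 4 * 42 := by rw [hidx]; exact hO
        exact Nat.dvd_of_mul_dvd_mul_left (by norm_num) this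
      have hn2 : ¬ 2 ∣ (T : Subgroup O).index := fun h => h8' (by rw [← hidx]; exact Nat.mul_dvd_mul_left 4 h)
      have hn7 : ¬ 7 ∣ (T : Subgroup O).index := fun h => h7 (by rw [← hidx]; exact h.mul_left 4)
      have hle : (T : Subgroup O).index ≤ 42 := Nat.le_of_dvd (by norm_num) h42
      interval_cases hi : (T : Subgroup O).index <;> revert h42 hn2 hn7 <;> decide
    have hn : Nat.card (Sylow 2 O) = 3 := by
      rcases (Nat.dvd_prime (by norm_num)).1 (T.card_dvd_index.trans h3) with h1 | h1
      · have hsub : Subsingleton (Sylow 2 O) := (Nat.card_eq_one_iff_unique.1 h1).1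
        exact absurd (Sylow.normal_of_subsingleton T) hN
      · exact h1
    have hO12 : Nat.card O = 12 := by
      have h1 : Nat.card (Sylow 2 O) ∣ (T : Subgroup O).index := T.card_dvd_index
      rw [hn] at h1
      have : (T : Subgroup O).index = 3 := Nat.dvd_antisymm h3 h1
      rw [← hidx, this]
    -- the action on the three Sylow 2-subgroups
    let ψ : O →* Equiv.Perm (Sylow 2 O) := MulAction.toPermHom O (Sylow 2 O)
    have hr6 : Nat.card ψ.range ∣ 6 := by
      have h1 := card_subgroup_dvd_card ψ.range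
      rwa [Nat.card_perm, hn] at h1
    have hr3 : 3 ∣ Nat.card ψ.range := by
      have h1 : Nat.card (MulAction.orbit ψ.range T) = 3 := by
        have : MulAction.orbit ψ.range T = Set.univ := by
          refine Set.eq_univ_of_forall fun Q => ?_
          obtain ⟨g, hg⟩ := MulAction.exists_smul_eq O T Q
          exact ⟨⟨ψ g, g, rfl⟩, hg⟩
        rw [this, Nat.card_coe_set_eq, Set.ncard_univ, hn]
      rw [← h1, ← Nat.card_congr (MulAction.orbitProdStabilizerEquivGroup ψ.range T), Nat.card_prod]
      exact Dvd.intro _ rfl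
    have hk : Nat.card ψ.ker * Nat.card ψ.range = 12 := by
      rw [← hO12, ← ψ.ker.card_mul_index, Subgroup.index_ker]
    have hk2 : Nat.card ψ.ker = 2 ^ 1 ∨ Nat.card ψ.ker = 2 ^ 2 := by
      have hle : Nat.card ψ.range ≤ 6 := Nat.le_of_dvd (by norm_num) hr6
      interval_cases hi : Nat.card ψ.range <;> omega
    refine ⟨ψ.ker, MonoidHom.normal_ker ψ, ?_, fun hb => ?_⟩
    · rcases hk2 with h1 | h1
      · exact IsPGroup.of_card h1
      · exact IsPGroup.of_card h1
    · rw [hb, card_bot] at hk2
      revert hk2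
      decide

end Cfsg.Agent.H809.Two
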