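import Mathlib
import Cfsg.Agent.H617.Two.Defs

/-!
# S4543, T3: the structure of `Q` (helper809)
-/

set_option autoImplicit false

namespace Cfsg.Agent.H809.Two.Struct

open Subgroup Cfsg.Agent.H617.Two

section

variable {G : Type*} [Group G] [Finite G] (h2 : IsPGroup 2 G) (α : G →* G) (hα : ∀ g, α (α (α g)) = g)
  (R : Subgroup G) (hR : ∀ x, x ∈ R ↔ α x = x) (hidx : R.index = 4)

omit [Finite G] in
include hα hR in
theorem mem_iff (x : G) : α x ∈ R ↔ x ∈ R := by
  rw [hR, hR]
  constructor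
  · intro h
    have h1 : α (α (α x)) = α (α x) := by rw [h, h]
    rw [hα, h] at h1
    exact h1.symm
  · intro h
    rw [h, h]

omit [Finite G] in
include h2 hα hR in
/-- (i) -/
theorem not_mem {x : G} (hx : x ∉ R) : x⁻¹ * α x ∉ R := by
  intro h
  obtain ⟨v, hv⟩ : ∃ v, v = x⁻¹ * α x := ⟨_, rfl⟩
  rw [← hv] at h
  have hv1 : α v = v := (hR v).1 h
  have h1 : α x = x * v := by rw [hv, mul_inv_cancel_left]
  have h3 : x * (v * v * v) = x := by
    have e2 : α (α x) = x * v * v := by rw [h1, map_mul, h1, hv1]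
    have e3 : α (α (α x)) = x * v * v * v := by rw [e2, map_mul, map_mul, h1, hv1]
    rw [hα] at e3
    rw [← mul_assoc, ← mul_assoc, ← e3]
  have h5 : v ^ 3 = 1 := by
    have : v * v * v = 1 := mul_left_cancel (h3.trans (mul_one x).symm)
    rw [pow_succ, pow_two, this]
  obtain ⟨k, hk⟩ := h2 v
  have h6 : v = 1 := by
    have hco : Nat.Coprime 3 (2 ^ k) := Nat.Coprime.pow_right k (by decide)
    have := pow_gcd_eq_one.2 ⟨h5, hk⟩
    rwa [hco.gcd_eq_one, pow_one] at this
  exact hx ((hR x).2 (by rw [h1, h6, mul_one]))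

include h2 hα hR hidx in
/-- (ii) -/
theorem normal : R.Normal := by
  have hf : Fact (Nat.Prime 2) := ⟨Nat.prime_two⟩
  have hnil : Group.IsNilpotent G := h2.isNilpotent
  have hlt : R < ⊤ := by
    rw [lt_top_iff_ne_top]
    rintro h
    rw [h, index_top] at hidx
    exact absurd hidx (by norm_num)
  have hgrow : R < normalizer (R : Set G) := Group.normalizerCondition_of_isNilpotent R hlt
  rw [← normalizer_eq_top_iff]
  by_contra hne
  set N := normalizer (R : Set G) with hN
  have h1 : R.relIndex N * N.index = 4 := by rw [relIndex_mul_index hgrow.le, hidx]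
  have h3 : R.relIndex N ≠ 1 := fun h => hgrow.not_ge (relIndex_eq_one.1 h)
  have h4 : N.index ≠ 1 := fun h => hne (index_eq_one.1 h)
  have h5 : R.relIndex N = 2 := by
    have h6 : R.relIndex N ∣ 4 := Dvd.intro _ h1
    have h7 : R.relIndex N ≤ 4 := Nat.le_of_dvd (by norm_num) h6
    interval_cases h8 : R.relIndex N
    · omega
    · omega
    · rfl
    · omega
    · omega
  obtain ⟨x, hxN, hxR⟩ := SetLike.exists_of_lt hgrow
  have haN : α x ∈ N := by
    have hmem : ∀ r ∈ R, α x * r * (α x)⁻¹ ∈ R := by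
      intro r hr
      have h8 : x * r * x⁻¹ ∈ R := (mem_normalizer_iff.1 hxN r).1 hr
      have h9 := (hR _).1 h8
      rw [map_mul, map_mul, map_inv, (hR r).1 hr] at h9
      rw [h9]
      exact h8
    rw [hN, mem_normalizer_iff]
    intro r
    refine ⟨hmem r, fun hr => ?_⟩
    have hfin : Finite R := inferInstance
    -- the conjugation is injective on the finite group `R`
    have hsurj : Function.Surjective (fun r : R => (⟨α x * r * (α x)⁻¹, hmem r r.2⟩ : R)) := by
      apply Finite.surjective_of_injective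
      intro a b hab
      have := congrArg Subtype.val hab
      exact Subtype.ext (mul_left_cancel (mul_right_cancel this))
    obtain ⟨r', hr'⟩ := hsurj ⟨_, hr⟩
    have := congrArg Subtype.val hr'
    have h10 : (r' : G) = r := mul_left_cancel (mul_right_cancel this)
    rw [← h10]
    exact r'.2
  have h11 : (R.subgroupOf N).index = 2 := h5
  have haR : α x ∉ R := fun h => hxR ((mem_iff α hα R hR x).1 h)
  have h12 := (mul_mem_iff_of_index_two h11 (a := ⟨x⁻¹, N.inv_mem hxN⟩) (b := ⟨α x, haN⟩)).2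
    (by
      rw [mem_subgroupOf, mem_subgroupOf]
      exact ⟨fun h => absurd (R.inv_mem_iff.1 h) hxR, fun h => absurd h haR⟩)
  exact not_mem h2 α hα R hR hxR h12

include h2 hα hR hidx in
/-- (iii) -/
theorem sq_mem (x : G) : x * x ∈ R := by
  have hn := normal h2 α hα R hR hidx
  by_contra hx
  have hc : Nat.card (G ⧸ R) = 4 := by rw [← index_eq_card, hidx]
  have h1 : orderOf (QuotientGroup.mk' R x) = 4 := by
    have h3 : orderOf (QuotientGroup.mk' R x) ∣ 2 ^ 2 := by
      have := orderOf_dvd_natCard (QuotientGroup.mk' R x)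
      rwa [hc] at this
    refine orderOf_eq_prime_pow (p := 2) (n := 1) ?_ (orderOf_dvd_iff_pow_eq_one.1 h3)
    rw [pow_one, pow_two, ← map_mul]
    intro h
    exact hx ((QuotientGroup.eq_one_iff _).1 h)
  have hfin : Finite (G ⧸ R) := Nat.finite_of_card_ne_zero (by rw [hc]; norm_num)
  have htop : Subgroup.zpowers (QuotientGroup.mk' R x) = ⊤ := by
    apply Subgroup.eq_top_of_card_eq
    rw [Nat.card_zpowers, h1, hc]
  have h4 : QuotientGroup.mk' R (α x) ∈ Subgroup.zpowers (QuotientGroup.mk' R x) := by rw [htop]; exact mem_top _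
  obtain ⟨k, hk⟩ := mem_zpowers_iff.1 h4
  have h5 : QuotientGroup.mk' R (α (x * x)) = (QuotientGroup.mk' R x) ^ (2 * k) := by
    rw [map_mul, map_mul, ← hk, ← zpow_add, two_mul]
  have hx2 : α (x * x) ∉ R := fun h => hx ((mem_iff α hα R hR _).1 h)
  have h6 : ¬ (4 : ℤ) ∣ 2 * k := by
    intro h
    apply hx2
    have h7 : QuotientGroup.mk' R (α (x * x)) = 1 := by
      rw [h5]
      exact orderOf_dvd_iff_zpow_eq_one.1 (by rw [h1]; exact_mod_cast h)
    exact (QuotientGroup.eq_one_iff _).1 h7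
  have h8 : (4 : ℤ) ∣ 2 * k - 2 := by omega
  apply not_mem h2 α hα R hR hx
  have h9 : QuotientGroup.mk' R ((x * x)⁻¹ * α (x * x)) = 1 := by
    rw [map_mul, map_inv, h5, map_mul, ← pow_two, ← zpow_natCast, ← zpow_neg, ← zpow_add]
    apply orderOf_dvd_iff_zpow_eq_one.1
    rw [h1]
    have : ((4 : ℕ) : ℤ) = 4 := rfl
    rw [this]
    have e : -((2 : ℕ) : ℤ) + 2 * k = 2 * k - 2 := by push_cast; ring
    rw [e]
    exact h8
  exact (QuotientGroup.eq_one_iff _).1 h9

/-- a good pair -/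
structure F (p q : G) : Prop where
  ap : α p = q
  aq : α q = (p * q)⁻¹
  pR : p ∉ R
  qR : q ∉ R
  pqR : p * q ∉ R
  pp : p * p ∈ R
  qq : q * q = p * p
  pppp : p * p * (p * p) = 1
  comm : p * q = p * p * (q * p)
  pc : ∀ r ∈ R, p * r = r * p
  qc : ∀ r ∈ R, q * r = r * q

include h2 hα hR hidx in
theorem exists_F {x : G} (hx : x ∉ R) : F α R (x⁻¹ * α x) (α (x⁻¹ * α x)) := by
  have hn := normal h2 α hα R hR hidx
  obtain ⟨p, hp⟩ : ∃ p, p = x⁻¹ * α x := ⟨_, rfl⟩
  rw [← hp]
  have hpR : p ∉ R := by rw [hp]; exact not_mem h2 α hα R hR hx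
  have hqR : α p ∉ R := fun h => hpR ((mem_iff α hα R hR _).1 h)
  have hcent : ∀ w : G, ∀ r ∈ R, (w⁻¹ * α w) * r = r * (w⁻¹ * α w) := by
    intro w r hr
    have h8 : w * r * w⁻¹ ∈ R := hn.conj_mem r hr w
    have h9 := (hR _).1 h8
    rw [map_mul, map_mul, map_inv, (hR r).1 hr] at h9
    -- `α w r (α w)⁻¹ = w r w⁻¹`
    have h10 : α w * r = w * r * w⁻¹ * α w := mul_inv_eq_iff_eq_mul.1 h9
    rw [mul_assoc, h10]
    group
  have hpc : ∀ r ∈ R, p * r = r * p := by rw [hp]; exact hcent x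
  have hqc : ∀ r ∈ R, α p * r = r * α p := by
    intro r hr
    have h := hpc r hr
    have h1 := congrArg α h
    rwa [map_mul, map_mul, (hR r).1 hr] at h1
  have hpqr : p * α p * α (α p) = 1 := by
    rw [hp]
    simp only [map_mul, map_inv, hα]
    group
  have hr : α (α p) = (p * α p)⁻¹ := eq_inv_of_mul_eq_one_right hpqr
  have hpp : p * p ∈ R := sq_mem h2 α hα R hR hidx p
  have hqq : α p * α p = p * p := by
    rw [← map_mul]
    exact (hR _).1 hpp
  have hrr : (p * α p)⁻¹ * (p * α p)⁻¹ = p * p := by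
    rw [← hr, ← map_mul, hqq]
    exact (hR _).1 hpp
  obtain ⟨q, hq⟩ : ∃ q, q = α p := ⟨_, rfl⟩
  rw [← hq] at hqR hqc hr hqq hrr
  rw [← hq]
  obtain ⟨s, hs⟩ : ∃ s, s = p * p := ⟨_, rfl⟩
  rw [← hs] at hpp hqq hrr
  have hps : p * s = s * p := hpc s hpp
  have hqs : q * s = s * q := hqc s hpp
  -- `p q p q = s⁻¹`
  have h1 : p * q * (p * q) = s⁻¹ := by
    rw [← hrr]
    group
  have hqi : q⁻¹ = s⁻¹ * q := by rw [← hqq]; group
  have hpi : p⁻¹ = s⁻¹ * p := by rw [hs]; group
  have hcp : Commute p s := hps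
  have hcq : Commute q s := hqs
  -- `q p = s³ p q`
  have h3 : s * s * s * (p * q) = q * p := by
    have h4 : p * q = s⁻¹ * (q⁻¹ * p⁻¹) := by rw [← h1]; group
    rw [h4, hqi, hpi]
    have e1 : s⁻¹ * q * (s⁻¹ * p) = s⁻¹ * s⁻¹ * (q * p) := by
      rw [mul_assoc, ← mul_assoc q, hcq.inv_right.eq]
      group
    rw [e1]
    group
  have h4 : s * s * s * (s * s * s) = 1 := by
    have hct : Commute p (s * s * s) := (hcp.mul_right hcp).mul_right hcp
    have h5 : p * (s * s * s * (p * q)) = p * (q * p) := by rw [h3]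
    have h6 : s * s * s * (s * q) = p * q * p := by
      rw [← mul_assoc, hct.eq, mul_assoc, ← mul_assoc p p, ← hs] at h5
      rw [h5, mul_assoc]
    have h7 : s * s * s * (s * s * s * (s * q)) = s * q := by
      rw [h6, ← mul_assoc, h3, mul_assoc, ← hs, hqs]
    rw [← mul_assoc] at h7
    exact mul_eq_right.1 h7
  have h5 : s * s = 1 := by
    obtain ⟨k, hk⟩ := h2 s
    have h6 : (s * s) ^ 3 = 1 := by
      rw [← h4]
      simp only [pow_succ, pow_zero, one_mul, mul_assoc]
    have h7 : (s * s) ^ 2 ^ k = 1 := by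
      rw [← pow_two, ← pow_mul, mul_comm, pow_mul, hk, one_pow]
    have hco : Nat.Coprime 3 (2 ^ k) := Nat.Coprime.pow_right k (by decide)
    have := pow_gcd_eq_one.2 ⟨h6, h7⟩
    rwa [hco.gcd_eq_one, pow_one] at this
  have h6 : p * q = s * (q * p) := by
    have e : s * s * s = s := by rw [h5, one_mul]
    rw [← h3, e, ← mul_assoc, h5, one_mul]
  have hpqR : p * q ∉ R := by
    intro h
    apply not_mem h2 α hα R hR hpR
    rw [← hq, hpi, mul_assoc]
    exact R.mul_mem (R.inv_mem hpp) h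
  exact
    { ap := hq.symm
      aq := hr
      pR := hpR
      qR := hqR
      pqR := hpqR
      pp := by rw [← hs]; exact hpp
      qq := by rw [hqq, hs]
      pppp := by rw [← hs]; exact h5
      comm := by rw [← hs]; exact h6
      pc := hpc
      qc := hqc }

include h2 hα hR hidx in
/-- cover -/
theorem cover {p q : G} (h : F α R p q) (x : G) :
    ∃ r ∈ R, x = r ∨ x = p * r ∨ x = q * r ∨ x = p * q * r := by
  have hn := normal h2 α hα R hR hidx
  have hc : Nat.card (G ⧸ R) = 4 := by rw [← index_eq_card, hidx]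
  have hfin : Finite (G ⧸ R) := Nat.finite_of_card_ne_zero (by rw [hc]; norm_num)
  have := Fintype.ofFinite (G ⧸ R)
  classical
  have hpp' : p⁻¹ * (p * p) = p := by group
  have hpi : p⁻¹ ∈ R ↔ p ∈ R := R.inv_mem_iff
  -- the four cosets
  have h1 : ((1 : G) : G ⧸ R) ≠ (p : G ⧸ R) := by
    intro e
    have := QuotientGroup.eq.1 e
    rw [inv_one, one_mul] at this
    exact h.pR this
  have h3 : ((1 : G) : G ⧸ R) ≠ (q : G ⧸ R) := by
    intro e
    have := QuotientGroup.eq.1 e
    rw [inv_one, one_mul] at this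
    exact h.qR this
  have h4 : ((1 : G) : G ⧸ R) ≠ ((p * q : G) : G ⧸ R) := by
    intro e
    have := QuotientGroup.eq.1 e
    rw [inv_one, one_mul] at this
    exact h.pqR this
  have h5 : (p : G ⧸ R) ≠ (q : G ⧸ R) := by
    intro e
    have h6 := QuotientGroup.eq.1 e
    apply h.pqR
    have : p * q = p * p * (p⁻¹ * q) := by group
    rw [this]
    exact R.mul_mem h.pp h6
  have h6 : (p : G ⧸ R) ≠ ((p * q : G) : G ⧸ R) := by
    intro e
    have h6 := QuotientGroup.eq.1 e
    rw [inv_mul_cancel_left] at h6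
    exact h.qR h6
  have h7 : (q : G ⧸ R) ≠ ((p * q : G) : G ⧸ R) := by
    intro e
    have h6 := QuotientGroup.eq.1 e
    apply h.pR
    have e1 := hn.conj_mem _ h6 q
    have : p = q * (q⁻¹ * (p * q)) * q⁻¹ := by group
    rw [this]
    exact e1
  have h8 : ({((1 : G) : G ⧸ R), (p : G ⧸ R), (q : G ⧸ R), ((p * q : G) : G ⧸ R)} :
      Finset (G ⧸ R)) = Finset.univ := by
    apply Finset.eq_univ_of_card
    rw [← Nat.card_eq_fintype_card, hc]
    rw [Finset.card_insert_of_notMem, Finset.card_insert_of_notMem, Finset.card_insert_of_notMem,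
      Finset.card_singleton]
    · rw [Finset.mem_singleton]; exact h7
    · rw [Finset.mem_insert, Finset.mem_singleton]; exact not_or.2 ⟨h5, h6⟩
    · rw [Finset.mem_insert, Finset.mem_insert, Finset.mem_singleton]
      exact not_or.2 ⟨h1, not_or.2 ⟨h3, h4⟩⟩
  have h9 : (x : G ⧸ R) ∈ ({((1 : G) : G ⧸ R), (p : G ⧸ R), (q : G ⧸ R),
      ((p * q : G) : G ⧸ R)} : Finset (G ⧸ R)) := by rw [h8]; exact Finset.mem_univ _
  simp only [Finset.mem_insert, Finset.mem_singleton] at h9
  rcases h9 with h9 | h9 | h9 | h9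
  · refine ⟨x, ?_, Or.inl rfl⟩
    have := QuotientGroup.eq.1 h9.symm
    rwa [inv_one, one_mul] at this
  · exact ⟨p⁻¹ * x, QuotientGroup.eq.1 h9.symm, Or.inr (Or.inl (by group))⟩
  · exact ⟨q⁻¹ * x, QuotientGroup.eq.1 h9.symm, Or.inr (Or.inr (Or.inl (by group)))⟩
  · exact ⟨(p * q)⁻¹ * x, QuotientGroup.eq.1 h9.symm, Or.inr (Or.inr (Or.inr (by group)))⟩

omit [Finite G] in
theorem F.hom_ne {p q : G} (h : F α R p q) [R.Normal] :
    QuotientGroup.mk' R p ≠ 1 ∧ QuotientGroup.mk' R q ≠ 1 ∧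
      QuotientGroup.mk' R p ≠ QuotientGroup.mk' R q := by
  refine ⟨fun e => h.pR ((QuotientGroup.eq_one_iff _).1 e), fun e => h.qR ((QuotientGroup.eq_one_iff _).1 e),
    fun e => h.pqR ?_⟩
  have h6 := QuotientGroup.eq.1 e
  have : p * q = p * p * (p⁻¹ * q) := by group
  rw [this]
  exact R.mul_mem h.pp h6

include h2 hα hR hidx in
theorem exists_fix (β : G →* G) (w : G) (hβα : ∀ g, α (β (α g)) = β g)
    (hββ : ∀ g, β (β g) = w * g * w⁻¹) :
    ∃ p q, F α R p q ∧ p⁻¹ * β p ∈ R := by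
  have hn := normal h2 α hα R hR hidx
  have hβR : ∀ r ∈ R, β r ∈ R := by
    intro r hr
    rw [hR]
    have := hβα r
    rwa [(hR r).1 hr] at this
  obtain ⟨x, hx⟩ : ∃ x, x ∉ R := by
    by_contra hne
    push Not at hne
    have : R = ⊤ := by rw [eq_top_iff]; intro x _; exact hne x
    rw [this, index_top] at hidx
    exact absurd hidx (by norm_num)
  have hF := exists_F h2 α hα R hR hidx hx
  have hax : α x ∉ R := fun h => hx ((mem_iff α hα R hR _).1 h)
  have haax : α (α x) ∉ R := fun h => hax ((mem_iff α hα R hR _).1 h)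
  have hF2 := exists_F h2 α hα R hR hidx hax
  have hF3 := exists_F h2 α hα R hR hidx haax
  obtain ⟨p, hp⟩ : ∃ p, p = x⁻¹ * α x := ⟨_, rfl⟩
  have e2 : (α x)⁻¹ * α (α x) = α p := by rw [hp, map_mul, map_inv]
  have e3 : (α (α x))⁻¹ * α (α (α x)) = α (α p) := by rw [hp, map_mul, map_mul, map_inv, map_inv]
  rw [← hp] at hF
  rw [e2] at hF2
  rw [e3] at hF3
  clear e2 e3
  obtain ⟨q, hq⟩ : ∃ q, q = α p := ⟨_, rfl⟩
  rw [← hq] at hF hF2 hF3
  obtain ⟨P, hP⟩ : ∃ P, P = QuotientGroup.mk' R p := ⟨_, rfl⟩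
  obtain ⟨Q, hQ⟩ : ∃ Q, Q = QuotientGroup.mk' R q := ⟨_, rfl⟩
  have hsq : ∀ g : G, QuotientGroup.mk' R g * QuotientGroup.mk' R g = 1 := by
    intro g
    rw [← map_mul]
    exact (QuotientGroup.eq_one_iff _).2 (sq_mem h2 α hα R hR hidx g)
  have hPP : P * P = 1 := by rw [hP]; exact hsq p
  have hQQ : Q * Q = 1 := by rw [hQ]; exact hsq q
  have hPQPQ : P * Q * (P * Q) = 1 := by rw [hP, hQ, ← map_mul]; exact hsq _
  have hR1 : ∀ r ∈ R, QuotientGroup.mk' R r = 1 := fun r hr => (QuotientGroup.eq_one_iff _).2 hr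
  have hPi : P⁻¹ = P := inv_eq_of_mul_eq_one_right hPP
  have hQi : Q⁻¹ = Q := inv_eq_of_mul_eq_one_right hQQ
  have hPQ : P * Q = Q * P := by
    have := eq_inv_of_mul_eq_one_left hPQPQ
    rw [mul_inv_rev, hPi, hQi] at this
    exact this
  have hcomm : ∀ g : G, QuotientGroup.mk' R (w * g * w⁻¹) = QuotientGroup.mk' R g := by
    intro g
    rw [map_mul, map_mul, map_inv]
    have h1 := hsq w
    have h3 := hsq g
    have h4 := hsq (w * g)
    rw [map_mul] at h4
    have e1 := eq_inv_of_mul_eq_one_left h4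
    rw [mul_inv_rev, inv_eq_of_mul_eq_one_right h1, inv_eq_of_mul_eq_one_right h3] at e1
    rw [e1, mul_inv_cancel_right]
  have key : ∀ {p' q' : G}, QuotientGroup.mk' R p' = QuotientGroup.mk' R q' →
      QuotientGroup.mk' R (β p') = QuotientGroup.mk' R (β q') := by
    intro p' q' e
    have h1 := QuotientGroup.eq.1 e
    have h3 := hβR _ h1
    rw [map_mul, map_inv] at h3
    exact QuotientGroup.eq.2 h3
  obtain ⟨r, hr, hβp⟩ := cover h2 α hα R hR hidx hF (β p)
  have hββp : QuotientGroup.mk' R (β (β p)) = P := by rw [hββ, hcomm, hP]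
  rcases hβp with hβp | hβp | hβp | hβp
  · exfalso
    have h1 : QuotientGroup.mk' R (β p) = QuotientGroup.mk' R 1 := by
      rw [hβp, hR1 r hr, map_one]
    have h3 := key h1
    rw [hββp, map_one, map_one] at h3
    exact (hF.hom_ne α R).1 (by rw [← hP]; exact h3)
  · exact ⟨p, q, hF, by rw [hβp, inv_mul_cancel_left]; exact hr⟩
  · -- `β p = q r`: the third pair
    refine ⟨α q, α (α q), hF3, ?_⟩
    have h1 : QuotientGroup.mk' R (β p) = QuotientGroup.mk' R q := by
      rw [hβp, map_mul, hR1 r hr, mul_one]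
    have h3 := key h1
    rw [hββp] at h3
    apply QuotientGroup.eq.1
    change QuotientGroup.mk' R (α q) = QuotientGroup.mk' R (β (α q))
    rw [hF.aq]
    rw [map_inv, map_mul, map_inv β, map_inv, map_mul β, map_mul, h1, ← h3, ← hP, ← hQ, hPQ]
  · -- `β p = p q r`: the second pair
    refine ⟨q, α q, hF2, ?_⟩
    have h1 : QuotientGroup.mk' R (β p) = QuotientGroup.mk' R (p * q) := by
      rw [hβp, map_mul _ (p * q), hR1 r hr, mul_one]
    have h3 := key h1
    rw [hββp, map_mul β, map_mul, h1, map_mul, ← hP, ← hQ, mul_assoc] at h3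
    -- `P = P * (Q * π (β q))`
    have h4 : Q * QuotientGroup.mk' R (β q) = 1 := (left_eq_mul.1 h3)
    apply QuotientGroup.eq.1
    change QuotientGroup.mk' R q = QuotientGroup.mk' R (β q)
    rw [← hQ, ← hQi]
    exact inv_eq_of_mul_eq_one_right h4

include h2 hα hR hidx in
theorem main_abs (β : G →* G) (w : G) (hβα : ∀ g, α (β (α g)) = β g)
    (hββ : ∀ g, β (β g) = w * g * w⁻¹) (hβw : β w = w) :
    ∃ p q, F α R p q ∧ β p = p * p * p ∧ β q = p * q ∧
      (w ∈ R ∨ (p * q = q * p ∧ ∃ r ∈ R, w = p * r)) := by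
  have hn := normal h2 α hα R hR hidx
  obtain ⟨p, q, hF, hfix⟩ := exists_fix h2 α hα R hR hidx β w hβα hββ
  refine ⟨p, q, hF, ?_⟩
  have hβR : ∀ r ∈ R, β r ∈ R := by
    intro r hr
    rw [hR]
    have := hβα r
    rwa [(hR r).1 hr] at this
  obtain ⟨s, hs⟩ : ∃ s, s = p * p := ⟨_, rfl⟩
  have hss : s * s = 1 := by rw [hs]; exact hF.pppp
  have hsR : s ∈ R := by rw [hs]; exact hF.pp
  have hps : p * s = s * p := hF.pc s hsR
  have hqs : q * s = s * q := hF.qc s hsR
  have hqq : q * q = s := by rw [hs]; exact hF.qq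
  have hpq : p * q = s * (q * p) := by rw [hs]; exact hF.comm
  have hpi : p⁻¹ = s * p := by
    rw [inv_eq_iff_mul_eq_one, ← mul_assoc, hps, mul_assoc, ← hs, hss]
  have hqi : q⁻¹ = s * q := by
    rw [inv_eq_iff_mul_eq_one, ← mul_assoc, hqs, mul_assoc, hqq, hss]
  have hqpq : q * p * q = p := by
    rw [mul_assoc, hpq, ← mul_assoc, hqs, mul_assoc, ← mul_assoc q, hqq, ← mul_assoc, hss, one_mul]
  have hrot : α (α q) = p := by
    rw [hF.aq, map_inv, map_mul, hF.ap, hF.aq, mul_inv_rev, inv_inv, mul_inv_cancel_right]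
  have hrot2 : α (α p) = (p * q)⁻¹ := by rw [hF.ap, hF.aq]
  have hpform : p = q⁻¹ * α q := by
    rw [hF.aq, mul_inv_rev, ← mul_assoc, hqi, hpi]
    have : s * q * (s * q) = s := by
      rw [← mul_assoc, mul_assoc s q s, hqs, ← mul_assoc, hss, one_mul, hqq]
    rw [this, ← mul_assoc, hss, one_mul]
  obtain ⟨w', hw'⟩ : ∃ w', w' = β q := ⟨_, rfl⟩
  have hβp : β p = w'⁻¹ * α (α w') := by
    have e1 : β (α q) = α (α (β q)) := by
      rw [← hβα q]
      rw [hα]
    conv_lhs => rw [hpform]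
    rw [map_mul, map_inv, e1, ← hw']
  have hsq : ∀ g : G, QuotientGroup.mk' R g * QuotientGroup.mk' R g = 1 := by
    intro g
    rw [← map_mul]
    exact (QuotientGroup.eq_one_iff _).2 (sq_mem h2 α hα R hR hidx g)
  have hR1 : ∀ r ∈ R, QuotientGroup.mk' R r = 1 := fun r hr => (QuotientGroup.eq_one_iff _).2 hr
  obtain ⟨hP1, hQ1, hPQ1⟩ := hF.hom_ne α R
  obtain ⟨P, hP⟩ : ∃ P, P = QuotientGroup.mk' R p := ⟨_, rfl⟩
  obtain ⟨Q, hQ⟩ : ∃ Q, Q = QuotientGroup.mk' R q := ⟨_, rfl⟩
  have hPi : P⁻¹ = P := by rw [hP]; exact inv_eq_of_mul_eq_one_right (hsq p)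
  have hQi : Q⁻¹ = Q := by rw [hQ]; exact inv_eq_of_mul_eq_one_right (hsq q)
  rw [← hP] at hP1 hPQ1
  rw [← hQ] at hQ1 hPQ1
  have hfix' : QuotientGroup.mk' R (β p) = P := by
    rw [hP]
    exact (QuotientGroup.eq.2 hfix).symm
  obtain ⟨r, hr, hw⟩ := cover h2 α hα R hR hidx hF w'
  have hrr := (hR r).1 hr
  have hβppp : β p = p * p * p ∧ β q = p * q := by
    have hβp' : β p = p⁻¹ := by
      rcases hw with hw | hw | hw | hw
      · exfalso
        -- `β p = 1`
        rw [hw, hrr, hrr, inv_mul_cancel] at hβp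
        rw [hβp, map_one] at hfix'
        exact hP1 hfix'.symm
      · exfalso
        rw [hw, map_mul, hrr, hF.ap, map_mul, hrr, hF.aq] at hβp
        rw [hβp] at hfix'
        simp only [map_mul, map_inv, mul_inv_rev, hR1 r hr, inv_one, mul_one, one_mul, ← hP, ← hQ, hPi,
          hQi] at hfix'
        -- `P * (Q * P) = P`
        have := mul_eq_left.1 hfix'
        have h5 : Q = P⁻¹ := eq_inv_of_mul_eq_one_left this
        rw [hPi] at h5
        exact hPQ1 h5.symm
      · exfalso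
        rw [hw, map_mul, hrr, map_mul, hrr, hrot] at hβp
        rw [hβp] at hfix'
        simp only [map_mul, map_inv, mul_inv_rev, hR1 r hr, inv_one, mul_one, one_mul, ← hP, ← hQ,
          hQi] at hfix'
        exact hQ1 (mul_eq_right.1 hfix')
      · have e1 : α (α (p * q * r)) = q⁻¹ * r := by
          rw [map_mul, map_mul, map_mul, map_mul, hrr, hrr, hrot, hrot2]
          group
        rw [hw, e1] at hβp
        rw [hβp]
        have hpr := hF.pc r hr
        have hqr := hF.qc r hr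
        have h5 : p * q * r = r * (p * q) := by
          rw [mul_assoc, hqr, ← mul_assoc, hpr, mul_assoc]
        rw [h5, mul_inv_rev]
        have h6 : q⁻¹ * r = r * q⁻¹ := by
          rw [inv_mul_eq_iff_eq_mul, ← mul_assoc, hqr, mul_inv_cancel_right]
        rw [h6, mul_assoc, inv_mul_cancel_left, ← mul_inv_rev, ← mul_assoc, hqpq]
    have hp4 : p * p * p = p⁻¹ := by rw [← hs, ← hps, hpi, hps]
    refine ⟨hβp'.trans hp4.symm, ?_⟩
    have h5 : α (β q) = β p := by rw [← hβα p, hF.ap]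
    have h6 : β q = α (α (β p)) := by rw [← h5, hα]
    rw [h6, hβp', map_inv, map_inv, hrot2, inv_inv]
  obtain ⟨hβ1, hβ2⟩ := hβppp
  refine ⟨hβ1, hβ2, ?_⟩
  have hp3 : p * p * p = p⁻¹ := by rw [← hs, ← hps, hpi, hps]
  have hwp : p * w = w * p := by
    have h5 := hββ p
    rw [hβ1, hp3, map_inv, hβ1, hp3, inv_inv] at h5
    exact eq_mul_inv_iff_mul_eq.1 h5
  have hwq : q * w = w * q := by
    have h5 := hββ q
    rw [hβ2, map_mul, hβ1, hβ2, hp3, inv_mul_cancel_left] at h5
    exact eq_mul_inv_iff_mul_eq.1 h5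
  obtain ⟨v, hv, hw2⟩ := cover h2 α hα R hR hidx hF w
  have hvR : QuotientGroup.mk' R (β v) = 1 := hR1 _ (hβR v hv)
  have hβP : QuotientGroup.mk' R (β p) = P := hfix'
  rcases hw2 with hw2 | hw2 | hw2 | hw2
  · exact Or.inl (by rw [hw2]; exact hv)
  · refine Or.inr ⟨?_, v, hv, hw2⟩
    rw [hw2, mul_assoc, ← hF.qc v hv, ← mul_assoc, ← mul_assoc] at hwq
    exact (mul_right_cancel hwq).symm
  · exfalso
    rw [hw2, map_mul, hβ2] at hβw
    have h5 := congrArg (QuotientGroup.mk' R) hβw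
    rw [map_mul, map_mul, hvR, map_mul, hR1 v hv, mul_one, mul_one, ← hP, ← hQ] at h5
    exact hP1 (mul_eq_right.1 h5)
  · exfalso
    rw [hw2, map_mul, map_mul, hβ2] at hβw
    have h5 := congrArg (QuotientGroup.mk' R) hβw
    rw [map_mul, map_mul, hvR, map_mul (QuotientGroup.mk' R) (p * q), hR1 v hv, mul_one, mul_one, hβP, map_mul,
      ← hP, ← hQ] at h5
    exact hP1 (mul_eq_right.1 (mul_left_cancel h5))

end

/-- **T3** -/
theorem T3 {D : Type*} [Group D] [Finite D] (h2 : IsPGroup 2 D) {Q R : Subgroup D} {z y : D}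
    {a : D → D} (h : Loc Q z a y) (hR : ∀ x, x ∈ R ↔ x ∈ Q ∧ a x = x)
    (h4 : Nat.card Q = 4 * Nat.card R) : ∃ y' p q, Str Q R y' p q := by
  have hRQ : R ≤ Q := fun x hx => ((hR x).1 hx).1
  let α : Q →* Q :=
    { toFun := fun g => ⟨a g, h.map g g.2⟩
      map_one' := by
        apply Subtype.ext
        have h1 := h.mul 1 Q.one_mem 1 Q.one_mem
        rw [one_mul] at h1
        exact left_eq_mul.1 h1
      map_mul' := fun g k => Subtype.ext (h.mul g g.2 k k.2) }
  let β : Q →* Q :=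
    { toFun := fun g => ⟨y * g * y⁻¹, h.yN g g.2⟩
      map_one' := Subtype.ext (by
        change y * (1 : D) * y⁻¹ = 1
        rw [mul_one, mul_inv_cancel])
      map_mul' := fun g k => Subtype.ext (by
        change y * ((g : D) * k) * y⁻¹ = (y * g * y⁻¹) * (y * k * y⁻¹)
        group) }
  let w : Q := ⟨y * y, h.yy⟩
  have hα : ∀ g, α (α (α g)) = g := fun g => Subtype.ext (h.cube g g.2)
  have hRα : ∀ x : Q, x ∈ R.subgroupOf Q ↔ α x = x := by
    intro x
    rw [mem_subgroupOf, hR]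
    constructor
    · intro h1
      exact Subtype.ext h1.2
    · intro h1
      exact ⟨x.2, congrArg Subtype.val h1⟩
  have hidx : (R.subgroupOf Q).index = 4 := by
    have h1 := card_mul_index (R.subgroupOf Q)
    have h3 : Nat.card (R.subgroupOf Q) = Nat.card R := Nat.card_congr (subgroupOfEquivOfLe hRQ).toEquiv
    rw [h3, h4, mul_comm] at h1
    exact Nat.eq_of_mul_eq_mul_right Nat.card_pos h1
  have hβα : ∀ g, α (β (α g)) = β g := fun g => Subtype.ext (h.inv g g.2)
  have hββ : ∀ g, β (β g) = w * g * w⁻¹ := by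
    intro g
    apply Subtype.ext
    change y * (y * g * y⁻¹) * y⁻¹ = (y * y) * g * (y * y)⁻¹
    group
  have hβw : β w = w := by
    apply Subtype.ext
    change y * (y * y) * y⁻¹ = y * y
    group
  obtain ⟨p, q, hF, hβp, hβq, hw⟩ :=
    main_abs (h2.to_subgroup Q) α hα (R.subgroupOf Q) hRα hidx β w hβα hββ hβw
  have hyp : y * (p : D) * y⁻¹ = p * p * p := congrArg Subtype.val hβp
  have hyq : y * (q : D) * y⁻¹ = p * q := congrArg Subtype.val hβq
  have hyR : ∀ r ∈ R, y * r * y⁻¹ ∈ R := by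
    intro r hr
    have h1 : (⟨r, hRQ hr⟩ : Q) ∈ R.subgroupOf Q := hr
    have h3 : β ⟨r, hRQ hr⟩ ∈ R.subgroupOf Q := by
      rw [hRα]
      have := hβα ⟨r, hRQ hr⟩
      rwa [(hRα _).1 h1] at this
    exact h3
  have hcover : ∀ x ∈ Q, ∃ r ∈ R, x = r ∨ x = p * r ∨ x = q * r ∨ x = p * q * r := by
    intro x hx
    obtain ⟨r, hr, h1⟩ := cover (h2.to_subgroup Q) α hα (R.subgroupOf Q) hRα hidx hF ⟨x, hx⟩
    refine ⟨r, hr, ?_⟩
    rcases h1 with h1 | h1 | h1 | h1
    · exact Or.inl (congrArg Subtype.val h1)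
    · exact Or.inr (Or.inl (congrArg Subtype.val h1))
    · exact Or.inr (Or.inr (Or.inl (congrArg Subtype.val h1)))
    · exact Or.inr (Or.inr (Or.inr (congrArg Subtype.val h1)))
  have hpc : ∀ r ∈ R, (p : D) * r = r * p := fun r hr =>
    congrArg Subtype.val (hF.pc ⟨r, hRQ hr⟩ hr)
  have hqc : ∀ r ∈ R, (q : D) * r = r * q := fun r hr =>
    congrArg Subtype.val (hF.qc ⟨r, hRQ hr⟩ hr)
  have hpppp : (p : D) * p * (p * p) = 1 := congrArg Subtype.val hF.pppp
  have hqq : (q : D) * q = p * p := congrArg Subtype.val hF.qq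
  have hcomm : (p : D) * q = p * p * (q * p) := congrArg Subtype.val hF.comm
  rcases hw with hw | ⟨hc, r, hr, hw⟩
  · exact ⟨y, p, q,
      { RQ := hRQ
        pQ := p.2
        qQ := q.2
        pR := hF.pR
        qR := hF.qR
        pqR := hF.pqR
        pp := hF.pp
        pppp := hpppp
        qq := hqq
        comm := hcomm
        pc := hpc
        qc := hqc
        cover := hcover
        yQ := h.yQ
        yR := hyR
        yy := hw
        yp := hyp
        yq := hyq }⟩
  · have hc' : (p : D) * q = q * p := congrArg Subtype.val hc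
    have hw' : y * y = p * r := congrArg Subtype.val hw
    have hr' : (r : D) ∈ R := hr
    have hpp1 : (p : D) * p = 1 := by
      rw [← hc'] at hcomm
      exact (right_eq_mul.1 hcomm)
    refine ⟨y * q, p, q,
      { RQ := hRQ
        pQ := p.2
        qQ := q.2
        pR := hF.pR
        qR := hF.qR
        pqR := hF.pqR
        pp := hF.pp
        pppp := hpppp
        qq := hqq
        comm := hcomm
        pc := hpc
        qc := hqc
        cover := hcover
        yQ := fun h1 => h.yQ ((Q.mul_mem_cancel_right q.2).1 h1)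
        yR := ?_
        yy := ?_
        yp := ?_
        yq := ?_ }⟩
    · intro t ht
      have e : y * (q : D) * t * (y * q)⁻¹ = y * t * y⁻¹ := by
        have := hqc t ht
        rw [mul_assoc y, this]
        group
      rw [e]
      exact hyR t ht
    · have e : y * (q : D) * (y * q) = r := by
        have e1 : y * (q : D) * (y * q) = (y * q * y⁻¹) * (y * y) * q := by group
        have e2 : (p : D) * q * (p * r) * q = p * (q * p) * (r * q) := by group
        rw [e1, hyq, hw', e2, ← hc', ← hqc r hr']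
        have e3 : (p : D) * (p * q) * (q * r) = p * p * (q * q) * r := by group
        rw [e3, hqq, hpp1, one_mul, one_mul]
      rw [e]
      exact hr'
    · have e : y * (q : D) * p * (y * q)⁻¹ = y * p * y⁻¹ := by
        rw [mul_assoc y, ← hc']
        group
      rw [e, hyp]
    · have e : y * (q : D) * q * (y * q)⁻¹ = y * q * y⁻¹ := by group
      rw [e, hyq]

end Cfsg.Agent.H809.Two.Struct
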